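import Groth.Prelude.Def_SekSuwa2
import Groth.Prelude.Def_NonAbH2
import Groth.Agent.Lib.TorsorSch25.ExactPts
import Groth.Agent.Lib.SekSuwa19.Basic

/-!
# Exact sequences of affine groups from bialgebra maps
-/

set_option autoImplicit false
set_option linter.style.haveILetI false
set_option backward.isDefEq.respectTransparency.types false

universe u

open CategoryTheory CategoryTheory.Limits MonoidalCategory CartesianMonoidalCategory MonObj AlgebraicGeometry

noncomputable section

namespace Groth.Agent.RankP19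

variable {S : Scheme.{u}} {G G' G'' : Over S} [GrpObj G] [GrpObj G'] [GrpObj G'']

/-- Exactness for the fppf topology from points. -/
theorem isExactSeq_fppf_of_points (u : G' ⟶ G) (v : G ⟶ G'') [IsMonHom u] [IsMonHom v] (huv : u ≫ v = 1)
    (h : ∀ (T : Over S) (x y : T ⟶ G), x ≫ v = y ≫ v → ∃! k : T ⟶ G', x * (k ≫ u) = y)
    [Flat v.left] [Surjective v.left] [QuasiCompact v.left] [LocallyOfFinitePresentation v.left] :
    NonAbH1.IsExactSeq Scheme.fppfPrecoverage u v := by
  obtain ⟨h1, h2, h3, h4, -⟩ := TorsorSch25.isExactSeq_of_points u v huv h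
  refine ⟨h1, h2, h3, h4, Presieve.singleton v.left, Scheme.Hom.singleton_mem_fppfPrecoverage _, fun S' f hf => ?_⟩
  obtain ⟨⟩ := hf
  exact ⟨𝟙 _, Category.id_comp _⟩

variable {R : Type u} [CommRing R] {A A' B : Type u} [CommRing A] [CommRing A'] [CommRing B]
  [HopfAlgebra R A] [HopfAlgebra R A'] [HopfAlgebra R B] (F : B →ₐc[R] A) (q : A →ₐc[R] A')

theorem toSpecΓ_cancel {T : Scheme.{u}} {C : CommRingCat.{u}} {a b : C ⟶ Γ(T, ⊤)}
    (h : T.toSpecΓ ≫ Spec.map a = T.toSpecΓ ≫ Spec.map b) : a = b := by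
  have := congrArg Scheme.Hom.appTop h
  simpa [Scheme.toSpecΓ_appTop] using this

/-- Points killed by `specHom F` come from a quotient cutting out the kernel. -/
theorem exists_factor (hq : Function.Surjective q)
    (hfac : ∀ {C : Type u} [CommRing C] (φ : A →+* C),
      (∀ b, φ (F b) = φ (algebraMap R A (Coalgebra.counit (R := R) b))) → RingHom.ker (q : A →+* A') ≤ RingHom.ker φ)
    {T : Over (Spec (CommRingCat.of R))} (w : T ⟶ (Spec (.of A)).asOver (Spec (.of R)))
    (hw : w ≫ SekSuwa.specHom F = 1) :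
    ∃ k : T ⟶ (Spec (.of A')).asOver (Spec (.of R)), k ≫ SekSuwa.specHom q = w := by
  obtain ⟨φ, hφ⟩ := SekSuwa19.exists_toSpecΓ w.left
  have e : w ≫ SekSuwa.specHom F =
      w ≫ SekSuwa.specHom ((Bialgebra.unitBialgHom R A).comp (Bialgebra.counitBialgHom R B)) := by
    rw [SekSuwa.specHom_trivial, MonObj.comp_one]; exact hw
  let sF : Spec (CommRingCat.of A) ⟶ Spec (CommRingCat.of B) := Spec.map (CommRingCat.ofHom (F : B →+* A))
  let sT : Spec (CommRingCat.of A) ⟶ Spec (CommRingCat.of B) :=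
    Spec.map (CommRingCat.ofHom ((algebraMap R A).comp (Bialgebra.counitAlgHom R B).toRingHom))
  have e' : (T.left.toSpecΓ ≫ Spec.map φ) ≫ sF = (T.left.toSpecΓ ≫ Spec.map φ) ≫ sT := by
    have := congrArg (fun f => f.left) e
    rw [← hφ]
    exact this
  rw [Category.assoc, Category.assoc] at e'
  simp only [sF, sT, ← Spec.map_comp] at e'
  have hker : RingHom.ker (q : A →+* A') ≤ RingHom.ker φ.hom := hfac φ.hom fun b =>
    RingHom.congr_fun (congrArg CommRingCat.Hom.hom (toSpecΓ_cancel e')) b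
  let ψ : A' →+* Γ(T.left, ⊤) := RingHom.liftOfSurjective (q : A →+* A') hq ⟨φ.hom, hker⟩
  have hψ : ψ.comp (q : A →+* A') = φ.hom := RingHom.liftOfRightInverse_comp _ _ _ _
  let kl : T.left ⟶ Spec (CommRingCat.of A') := T.left.toSpecΓ ≫ Spec.map (CommRingCat.ofHom ψ)
  let sq : Spec (CommRingCat.of A') ⟶ Spec (CommRingCat.of A) := Spec.map (CommRingCat.ofHom (q : A →+* A'))
  have hk : kl ≫ sq = T.left.toSpecΓ ≫ Spec.map φ := by
    simp only [kl, sq, Category.assoc, ← Spec.map_comp, ← CommRingCat.ofHom_comp, hψ]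
    rfl
  have hk' : kl ≫ sq = w.left := hk.trans hφ.symm
  refine ⟨Over.homMk kl ?_, Over.OverMorphism.ext hk'⟩
  have h1 : sq ≫ ((Spec (CommRingCat.of A)).asOver (Spec (CommRingCat.of R))).hom =
      ((Spec (CommRingCat.of A')).asOver (Spec (CommRingCat.of R))).hom := Over.w (SekSuwa.specHom q)
  rw [← h1]
  refine (Category.assoc _ _ _).symm.trans ?_
  exact (congrArg (· ≫ ((Spec (CommRingCat.of A)).asOver (Spec (CommRingCat.of R))).hom) hk').trans (Over.w w)

theorem mono_specHom (hq : Function.Surjective q) : Mono (SekSuwa.specHom q) := by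
  haveI : IsClosedImmersion (SekSuwa.specHom q).left :=
    IsClosedImmersion.spec_of_surjective (CommRingCat.ofHom (q : A →+* A')) hq
  haveI : Mono ((Over.forget _).map (SekSuwa.specHom q)) := inferInstanceAs (Mono (SekSuwa.specHom q).left)
  exact (Over.forget _).mono_of_mono_map inferInstance

end Groth.Agent.RankP19
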