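import Mathlib.RingTheory.Bialgebra.GroupLike
import Mathlib.RingTheory.Bialgebra.TensorProduct
import Mathlib.RingTheory.PowerBasis
import Mathlib.FieldTheory.Minpoly.Field
import Mathlib.GroupTheory.OrderOfElement
import Mathlib.Algebra.CharP.Basic

/-!
# Bialgebras over a field of characteristic `p` generated by a twisted primitive element
-/

set_option autoImplicit false

universe u v

open Polynomial
open scoped TensorProduct

noncomputable section

namespace Groth.Agent.RankP19

variable {k : Type u} [Field k] {B : Type v} [CommRing B] [Bialgebra k B]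

/-- Contraction of the second factor by a functional. -/
def contract (δ : B →ₗ[k] k) : B ⊗[k] B →ₗ[k] B :=
  (TensorProduct.rid k B).toLinearMap ∘ₗ δ.lTensor B

theorem contract_tmul (δ : B →ₗ[k] k) (a b : B) : contract δ (a ⊗ₜ[k] b) = δ b • a := by
  simp [contract]

theorem contract_comul_pow (δ : B →ₗ[k] k) (T : B) (d : ℕ) (hd : 2 ≤ d)
    (hΔ : Coalgebra.comul (R := k) T = T ⊗ₜ[k] 1 + 1 ⊗ₜ[k] T)
    (hδ : ∀ i < d, δ (T ^ i) = if i = 1 then 1 else 0) (m : ℕ) (hm : m ≤ d) :
    contract δ (Coalgebra.comul (R := k) (T ^ m)) =
      (m : k) • T ^ (m - 1) + if m = d then δ (T ^ d) • (1 : B) else 0 := by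
  rw [Bialgebra.comul_pow, hΔ, add_pow]
  simp only [Algebra.TensorProduct.tmul_pow, one_pow, Algebra.TensorProduct.tmul_mul_tmul, mul_one, one_mul,
    map_sum]
  have e : ∀ j : ℕ, contract δ ((T ^ j) ⊗ₜ[k] (T ^ (m - j)) * (m.choose j : B ⊗[k] B)) =
      ((m.choose j : k) * δ (T ^ (m - j))) • T ^ j := by
    intro j
    rw [← nsmul_eq_mul', map_nsmul, contract_tmul, ← Nat.cast_smul_eq_nsmul k, smul_smul]
  simp only [e]
  rcases Nat.eq_zero_or_pos m with rfl | hm0
  · rw [if_neg (by omega)]
    have h0 := hδ 0 (by omega)
    rw [pow_zero, if_neg (by omega)] at h0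
    simp [h0]
  · rw [Finset.sum_range_succ, Nat.sub_self, hδ 0 (by omega), if_neg (by omega), mul_zero, zero_smul, add_zero]
    by_cases hmd : m = d
    · subst hmd
      rw [if_pos rfl]
      rw [Finset.sum_eq_add_of_mem (s := Finset.range m) (m - 1) 0 (Finset.mem_range.2 (by omega))
        (Finset.mem_range.2 hm0) (by omega)]
      · rw [hδ _ (by omega : m - (m - 1) < m), if_pos (by omega), mul_one, Nat.sub_zero, Nat.choose_zero_right,
          Nat.cast_one, one_mul, pow_zero]
        congr 3
        exact (Nat.choose_symm (by omega : 1 ≤ m)).trans (Nat.choose_one_right m)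
      · intro j hj hj'
        have hj1 := Finset.mem_range.1 hj
        rw [hδ _ (by omega : m - j < m), if_neg (by omega), mul_zero, zero_smul]
    · rw [if_neg hmd, add_zero, Finset.sum_eq_single (m - 1)]
      · rw [hδ _ (by omega), if_pos (by omega), mul_one]
        congr 2
        exact (Nat.choose_symm (by omega : 1 ≤ m)).trans (Nat.choose_one_right m)
      · intro j hj hj'
        have hj1 := Finset.mem_range.1 hj
        rw [hδ _ (by omega : m - j < d), if_neg (by omega), mul_zero, zero_smul]
      · intro h
        exact absurd (Finset.mem_range.2 (by omega)) h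

variable [Nontrivial B]

/-- A nonzero twisted primitive element whose associated group-like element is killed by `p` has
linearly independent powers below `p`. -/
theorem linearIndependent_pow_of_twistedPrimitive (p : ℕ) [Fact p.Prime] [CharP k p] (c : k) (T : B)
    (hint : IsIntegral k T) (hT : T ≠ 0) (hε : Coalgebra.counit (R := k) T = 0)
    (hΔ : Coalgebra.comul (R := k) T = T ⊗ₜ[k] 1 + 1 ⊗ₜ[k] T + c • (T ⊗ₜ[k] T))
    (hp : (1 + c • T) ^ p = 1) :
    LinearIndependent k (fun i : Fin p => T ^ (i : ℕ)) := by
  classical
  set q := minpoly k T with hq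
  set d := q.natDegree with hd
  suffices hpd : p ≤ d from (linearIndependent_pow (K := k) T).comp (Fin.castLE hpd) (Fin.castLE_injective hpd)
  by_contra! hlt
  have hd0 : 0 < d := minpoly.natDegree_pos hint
  by_cases hc : c = 0
  · subst hc
    rw [zero_smul, add_zero] at hΔ
    have hd2 : 2 ≤ d := by
      by_contra! h
      have h1 : q.natDegree = 1 := by omega
      obtain ⟨a, ha⟩ := minpoly.natDegree_eq_one_iff.1 h1
      apply hT
      have := congrArg (Coalgebra.counit (R := k)) ha
      rw [hε, Bialgebra.counit_algebraMap] at this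
      rw [← ha, this, map_zero]
    obtain ⟨g, hg⟩ := LinearMap.exists_leftInverse_of_injective
      (Finsupp.linearCombination k fun i : Fin d => T ^ (i : ℕ))
      (LinearMap.ker_eq_bot.2 (linearIndependent_pow (K := k) T))
    let δ : B →ₗ[k] k := Finsupp.lapply ⟨1, hd2⟩ ∘ₗ g
    have hδ : ∀ i < d, δ (T ^ i) = if i = 1 then 1 else 0 := by
      intro i hi
      have h := LinearMap.congr_fun hg (Finsupp.single ⟨i, hi⟩ 1)
      rw [LinearMap.comp_apply, Finsupp.linearCombination_single, one_smul, LinearMap.id_apply] at h
      show g (T ^ i) ⟨1, hd2⟩ = _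
      rw [show g (T ^ i) = Finsupp.single ⟨i, hi⟩ 1 from h, Finsupp.single_apply]
      simp [Fin.ext_iff]
    let r : k[X] := derivative q + C (δ (T ^ d))
    have hr : aeval T r = 0 := by
      have h0 : contract δ (Coalgebra.comul (R := k) (aeval T q)) = 0 := by
        rw [hq, minpoly.aeval, map_zero, map_zero]
      rw [aeval_eq_sum_range, ← hd, map_sum, map_sum] at h0
      simp only [map_smul] at h0
      have hterm : ∀ m ∈ Finset.range (d + 1), q.coeff m • contract δ (Coalgebra.comul (R := k) (T ^ m)) =
          (q.coeff m * m) • T ^ (m - 1) + if m = d then δ (T ^ d) • (1 : B) else 0 := by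
        intro m hm
        rw [contract_comul_pow δ T d hd2 hΔ hδ m (by simpa [Nat.lt_succ_iff] using hm), smul_add, smul_smul]
        congr 1
        split
        · rename_i h
          rw [h, hd, Polynomial.coeff_natDegree, (minpoly.monic hint).leadingCoeff, one_smul]
        · rw [smul_zero]
      rw [Finset.sum_congr rfl hterm, Finset.sum_add_distrib, Finset.sum_ite_eq' , if_pos (by simp)] at h0
      have hder : aeval T (derivative q) = ∑ m ∈ Finset.range (d + 1), (q.coeff m * m) • T ^ (m - 1) := by
        conv_lhs => rw [q.as_sum_range_C_mul_X_pow]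
        rw [map_sum, map_sum, ← hd]
        refine Finset.sum_congr rfl fun m _ => ?_
        rw [derivative_C_mul_X_pow, map_mul, aeval_C, map_pow, aeval_X, ← Algebra.smul_def]
      simp only [r, map_add, aeval_C, hder, Algebra.algebraMap_eq_smul_one]
      exact h0
    have hr0 : r = 0 := by
      by_contra hne
      have h1 := minpoly.degree_le_of_ne_zero k T hne hr
      have h2 : r.natDegree < d := by
        refine lt_of_le_of_lt (natDegree_add_le _ _) (max_lt ?_ (by rw [natDegree_C]; omega))
        exact lt_of_le_of_lt (natDegree_derivative_le q) (by omega)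
      exact absurd (natDegree_le_natDegree h1) (by rw [← hq, ← hd]; omega)
    have hco := congrArg (fun f => Polynomial.coeff f (d - 1)) hr0
    simp only [r, coeff_add, coeff_derivative, coeff_C, coeff_zero] at hco
    rw [if_neg (by omega), add_zero, Nat.sub_add_cancel hd0, hd, Polynomial.coeff_natDegree,
      (minpoly.monic hint).leadingCoeff, one_mul, ← hd, ← Nat.cast_succ, Nat.succ_eq_add_one,
      Nat.sub_add_cancel hd0] at hco
    have := (CharP.cast_eq_zero_iff k p d).1 hco
    exact absurd (Nat.le_of_dvd hd0 this) (by omega)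
  · let u : B := 1 + c • T
    have hu : IsGroupLikeElem k u := by
      refine ⟨?_, ?_⟩
      · simp [u, hε]
      · simp only [u, map_add, map_smul, hΔ, Bialgebra.comul_one, Algebra.TensorProduct.one_def,
          TensorProduct.add_tmul, TensorProduct.tmul_add, TensorProduct.smul_tmul', TensorProduct.tmul_smul,
          smul_add, smul_smul]
        abel
    have hu1 : u ≠ 1 := by
      intro h
      apply hT
      have h2 : c • T = 0 := by simpa [u] using h
      exact (smul_eq_zero.1 h2).resolve_left hc
    have hord : orderOf u = p := orderOf_eq_prime hp hu1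
    have hli : LinearIndependent k (fun i : Fin p => u ^ (i : ℕ)) := by
      refine (linearIndepOn_isGroupLikeElem (R := k) (A := B)).linearIndependent.comp
        (fun i : Fin p => (⟨u ^ (i : ℕ), hu.pow⟩ : {a : B | IsGroupLikeElem k a})) ?_
      intro i j hij
      refine Fin.ext (pow_injOn_Iio_orderOf ?_ ?_ (congrArg Subtype.val hij)) <;> simp [hord]
    let r : k[X] := q.comp (C c⁻¹ * (X - 1))
    have hr : aeval u r = 0 := by
      rw [aeval_comp, map_mul, aeval_C, map_sub, aeval_X, map_one]
      have : algebraMap k B c⁻¹ * (u - 1) = T := by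
        rw [← Algebra.smul_def]
        simp [u, smul_smul, inv_mul_cancel₀ hc]
      rw [this, hq, minpoly.aeval]
    have hdeg : r.natDegree = d := by
      rw [natDegree_comp, natDegree_C_mul (inv_ne_zero hc), ← C_1, natDegree_X_sub_C, mul_one]
    have hr0 : r = 0 := by
      rw [aeval_eq_sum_range' (n := p) (by omega)] at hr
      have hz := Fintype.linearIndependent_iff.1 hli (fun i => r.coeff i)
        ((Fin.sum_univ_eq_sum_range (fun i => r.coeff i • u ^ i) p).trans hr)
      ext i
      rcases lt_or_ge i p with hi | hi
      · exact hz ⟨i, hi⟩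
      · exact coeff_eq_zero_of_natDegree_lt (by omega)
    rw [hr0, natDegree_zero] at hdeg
    omega

end Groth.Agent.RankP19
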