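import Mathlib.RingTheory.Bialgebra.Convolution
import Mathlib.RingTheory.Localization.FractionRing
import Mathlib.RingTheory.Coalgebra.GroupLike
import Mathlib.LinearAlgebra.TensorProduct.Basis
import Mathlib.RingTheory.IntegralClosure.IntegrallyClosed

/-!
# Group-like elements of a finite free bialgebra from characters of its points
-/

set_option autoImplicit false

universe u v w

open WithConv
open scoped TensorProduct

noncomputable section

namespace Groth.Agent.RankP19

variable {R : Type u} [CommRing R] [IsDomain R] [IsIntegrallyClosed R] [IsNoetherianRing R]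
variable {A : Type v} [CommRing A] [Bialgebra R A] {K : Type w} [Field K] [Algebra R K] [IsFractionRing R K]
variable {n : Type} [Fintype n] (b : Module.Basis n R A)

omit [IsDomain R] [IsIntegrallyClosed R] [IsNoetherianRing R] [IsFractionRing R K] in
theorem apply_eq_sum (x : A →ₐ[R] K) (a : A) : x a = ∑ k, algebraMap R K (b.repr a k) * x (b k) := by
  conv_lhs => rw [← b.sum_repr a]
  simp [map_sum, Algebra.smul_def]

/-- A character of a group of points of a finite free bialgebra, with values in the fraction field, is the
evaluation of a group-like element, provided the points form a basis. -/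
theorem exists_groupLike_of_character {M : Type} [MulOne M] (x : M → (A →ₐ[R] K))
    (hmul : ∀ i j, toConv (x i) * toConv (x j) = toConv (x (i * j)))
    (hbij : Function.Bijective (fun (c : n → K) (i : M) => ∑ k, c k * x i (b k)))
    (χ : M → K) (hχ : ∀ i j, χ (i * j) = χ i * χ j) :
    ∃ g : A, (∀ i, x i g = χ i) ∧ Coalgebra.comul (R := R) g = g ⊗ₜ[R] g := by
  classical
  obtain ⟨c, hc⟩ := hbij.2 χ
  have hc' : ∀ i, ∑ k, c k * x i (b k) = χ i := fun i => congrFun hc i
  have sep : ∀ e : n → n → K, (∀ i j, ∑ l, ∑ m, e l m * (x i (b l) * x j (b m)) = 0) → e = 0 := by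
    intro e he
    have h1 : ∀ j, (fun l => ∑ m, e l m * x j (b m)) = 0 := by
      intro j
      apply hbij.1
      funext i
      simp only [Pi.zero_apply, zero_mul, Finset.sum_const_zero]
      refine Eq.trans (Finset.sum_congr rfl fun l _ => ?_) (he i j)
      rw [Finset.sum_mul]
      exact Finset.sum_congr rfl fun m _ => by ring
    funext l
    apply hbij.1
    funext j
    simp only [Pi.zero_apply, zero_mul, Finset.sum_const_zero]
    exact congrFun (h1 j) l
  let D : n → n → n → R := fun k l m => (b.tensorProduct b).repr (Coalgebra.comul (R := R) (b k)) (l, m)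
  have conv : ∀ i j k, x (i * j) (b k) = ∑ l, ∑ m, algebraMap R K (D k l m) * (x i (b l) * x j (b m)) := by
    intro i j k
    show (toConv (x (i * j))) (b k) = _
    rw [← hmul, AlgHom.convMul_apply]
    conv_lhs => rw [← (b.tensorProduct b).sum_repr (Coalgebra.comul (R := R) (b k))]
    rw [map_sum, Fintype.sum_prod_type]
    refine Finset.sum_congr rfl fun l _ => Finset.sum_congr rfl fun m _ => ?_
    rw [map_smul, Module.Basis.tensorProduct_apply, Algebra.TensorProduct.lift_tmul, Algebra.smul_def]
  have coeq : ∀ l m, c l * c m = ∑ k, c k * algebraMap R K (D k l m) := by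
    have h : (fun l m => c l * c m - ∑ k, c k * algebraMap R K (D k l m)) = 0 := by
      refine sep _ fun i j => ?_
      have h1 : ∑ l, ∑ m, (c l * c m) * (x i (b l) * x j (b m)) = χ i * χ j := by
        rw [← hc' i, ← hc' j, Finset.sum_mul_sum]
        exact Finset.sum_congr rfl fun l _ => Finset.sum_congr rfl fun m _ => by ring
      have h2 : ∑ l, ∑ m, (∑ k, c k * algebraMap R K (D k l m)) * (x i (b l) * x j (b m)) = χ (i * j) := by
        rw [← hc' (i * j)]
        simp only [conv, Finset.sum_mul, Finset.mul_sum]
        conv_rhs => rw [Finset.sum_comm]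
        refine Finset.sum_congr rfl fun l _ => ?_
        conv_rhs => rw [Finset.sum_comm]
        exact Finset.sum_congr rfl fun m _ => Finset.sum_congr rfl fun k _ => by ring
      simp only [sub_mul, Finset.sum_sub_distrib]
      rw [h1, h2, hχ, sub_self]
    exact fun l m => sub_eq_zero.1 (congrFun (congrFun h l) m)
  have hint : ∀ l, c l ∈ (algebraMap R K).range := by
    intro l
    let S : Submodule R K := Submodule.span R (insert 1 (Set.range c))
    have hS : S.FG := Submodule.fg_span ((Set.finite_range c).insert 1)
    have hmem : ∀ k, c k ∈ S := fun k => Submodule.subset_span (Set.mem_insert_of_mem _ ⟨k, rfl⟩)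
    have hmulS : ∀ y ∈ S, c l * y ∈ S := by
      intro y hy
      induction hy using Submodule.span_induction with
      | mem y hy =>
        rcases hy with rfl | ⟨m, rfl⟩
        · rw [mul_one]; exact hmem l
        · rw [coeq]
          refine Submodule.sum_mem _ fun k _ => ?_
          rw [mul_comm, ← Algebra.smul_def]
          exact S.smul_mem _ (hmem k)
      | zero => rw [mul_zero]; exact S.zero_mem
      | add y z _ _ hy hz => rw [mul_add]; exact S.add_mem hy hz
      | smul r y _ hy => rw [mul_smul_comm]; exact S.smul_mem r hy
    have hi : IsIntegral R (c l) := by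
      refine isIntegral_of_smul_mem_submodule (R := R) S ?_ hS (c l) hmulS
      intro h
      have : (1 : K) ∈ S := Submodule.subset_span (Set.mem_insert _ _)
      rw [h] at this
      exact one_ne_zero ((Submodule.mem_bot R).1 this)
    exact IsIntegrallyClosed.isIntegral_iff.1 hi
  choose r hr using hint
  refine ⟨∑ k, r k • b k, fun i => ?_, ?_⟩
  · rw [← hc' i, map_sum]
    exact Finset.sum_congr rfl fun k _ => by rw [map_smul, Algebra.smul_def, hr]
  · refine (b.tensorProduct b).ext_elem fun ⟨l, m⟩ => IsFractionRing.injective R K ?_
    rw [Module.Basis.tensorProduct_repr_tmul_apply]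
    have hrep : ∀ j, b.repr (∑ k, r k • b k) j = r j := fun j => by rw [b.repr_sum_self]
    rw [hrep, hrep, smul_eq_mul, map_mul, hr, hr, mul_comm (c m), coeq, map_sum, map_sum, Finsupp.finsetSum_apply,
      map_sum]
    refine Finset.sum_congr rfl fun k _ => ?_
    rw [map_smul, map_smul, Finsupp.smul_apply, smul_eq_mul, map_mul, hr]

end Groth.Agent.RankP19
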