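import Groth.Agent.Lib.RankP19.Main
import Groth.Agent.Lib.RankP19.Field
import Groth.Agent.Lib.RankP19.Pts
import Groth.Agent.Lib.SekSuwa19.Basic
import Mathlib.RingTheory.DiscreteValuationRing.Basic
import Mathlib.RingTheory.TensorProduct.Free
import Mathlib.RingTheory.Bialgebra.Equiv
import Mathlib.Data.Nat.Choose.Dvd

/-!
# Maps to the models of `μ_p`
-/

set_option autoImplicit false
set_option linter.style.haveILetI false
set_option backward.isDefEq.respectTransparency.types false

universe u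

open Polynomial IsLocalRing
open scoped TensorProduct

noncomputable section

namespace Groth.Agent.RankP19

variable {R : Type u} [CommRing R] [IsDomain R] [IsDiscreteValuationRing R]

/-- A nontrivial group-like element `g` with `g ^ p = 1` gives a map to some `G_{λ,1}` with split injective
comorphism. -/
theorem exists_bialgHom_of_groupLike [CharZero R] (p : ℕ) [hp : Fact p.Prime] [CharP (ResidueField R) p]
    {A : Type u} [CommRing A] [Bialgebra R A] {n : Type} [Fintype n] [Nonempty n] (b : Module.Basis n R A) (g : A)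
    (hg : Coalgebra.comul (R := R) g = g ⊗ₜ[R] g) (hgε : Coalgebra.counit (R := R) g = 1)
    (hg1 : g ≠ 1) (hgp : g ^ p = 1) :
    ∃ (lam : R) (h : SekSuwa.DivCond lam p) (F : SekSuwa.AK R lam p h →ₐc[R] A), lam ≠ 0 ∧
      g = 1 + lam • F SekSuwa.AK.t ∧
      LinearIndependent (ResidueField R)
        (fun i : Fin p => ((1 : ResidueField R) ⊗ₜ[R] F SekSuwa.AK.t) ^ (i : ℕ)) := by
  classical
  haveI := Module.Free.of_basis b
  haveI := Module.Finite.of_basis b
  obtain ⟨π, hπ⟩ := IsDiscreteValuationRing.exists_irreducible R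
  have hbound : ∃ N, ¬ ∃ T : A, g - 1 = π ^ N • T := by
    obtain ⟨i, hi⟩ : ∃ i, b.repr (g - 1) i ≠ 0 := by
      by_contra! h
      exact sub_ne_zero.2 hg1 (b.ext_elem fun i => by rw [h i]; simp)
    obtain ⟨N, w, hw⟩ := IsDiscreteValuationRing.eq_unit_mul_pow_irreducible hi hπ
    refine ⟨N + 1, fun ⟨T, hT⟩ => ?_⟩
    rw [hT, map_smul, Finsupp.smul_apply, smul_eq_mul] at hw
    have hd : π ∣ (w : R) := ⟨b.repr T i, mul_right_cancel₀ (pow_ne_zero N hπ.ne_zero) (by rw [← hw]; ring)⟩
    exact hπ.not_isUnit (isUnit_of_dvd_unit hd w.isUnit)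
  have hN0 : Nat.find hbound ≠ 0 := fun h0 => by
    have := Nat.find_spec hbound
    rw [h0] at this
    exact this ⟨g - 1, by rw [pow_zero, one_smul]⟩
  set m := Nat.find hbound - 1 with hm
  obtain ⟨T, hgT⟩ := not_not.1 (Nat.find_min hbound (by omega : m < Nat.find hbound))
  have hT : ∀ T', T ≠ π • T' := fun T' h => Nat.find_spec hbound ⟨T', hgT.trans (by
    rw [h, smul_smul, ← pow_succ, hm, Nat.sub_add_cancel (Nat.pos_of_ne_zero hN0)])⟩
  have hl0 : π ^ m ≠ 0 := pow_ne_zero _ hπ.ne_zero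
  set lam := π ^ m with hlam
  have hgl : g = 1 + lam • T := by rw [← hgT]; abel
  rw [hgl] at hgp
  have hdiv : SekSuwa.DivCond lam p :=
    divCond_of_dvd hp.out hl0 (dvd_of_twistedPrimitive hp.out π hπ m T hT hgp)
  have hcT : Coalgebra.comul (R := R) T = T ⊗ₜ[R] 1 + 1 ⊗ₜ[R] T + lam • (T ⊗ₜ[R] T) := by
    apply smul_cancel hl0
    have h := hg
    rw [hgl] at h
    simp only [map_add, map_smul, Bialgebra.comul_one, Algebra.TensorProduct.one_def, TensorProduct.add_tmul,
      TensorProduct.tmul_add, TensorProduct.smul_tmul', TensorProduct.tmul_smul, smul_add, add_assoc,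
      add_left_cancel_iff] at h ⊢
    rw [h]
  have hεT : Coalgebra.counit (R := R) T = 0 := by
    apply smul_cancel hl0
    rw [smul_zero]
    have h := hgε
    rw [hgl, map_add, map_smul, Bialgebra.counit_one, add_eq_left] at h
    exact h
  have hrel : (1 + lam • T) * (1 + lam • T) ^ (p - 1) = 1 := by
    rw [← pow_succ', Nat.sub_add_cancel hp.out.one_le]; exact hgp
  have hP : aeval T (SekSuwa.psiPoly lam p hdiv) = 0 := by
    apply smul_cancel (pow_ne_zero p hl0)
    rw [Algebra.smul_def, SekSuwa.aeval_psiPoly hdiv T, smul_zero, ← Algebra.smul_def, hgp, sub_self]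
  let f₀ := SekSuwa.A.lift R lam T ((1 + lam • T) ^ (p - 1)) hrel
  let f : SekSuwa.AK R lam p hdiv →ₐ[R] A := Ideal.Quotient.liftₐ (SekSuwa.kerIdeal lam p hdiv) f₀ (by
    intro z hz
    obtain ⟨a, rfl⟩ := Ideal.mem_span_singleton'.mp hz
    rw [map_mul, SekSuwa.kerGen, ← Polynomial.aeval_algHom_apply, SekSuwa.A.lift_t, hP, mul_zero])
  have ft : f SekSuwa.AK.t = T := SekSuwa.A.lift_t _ _ hrel
  have ext' : ∀ {B : Type u} [CommRing B] [Algebra R B] (φ ψ : SekSuwa.AK R lam p hdiv →ₐ[R] B),
      φ SekSuwa.AK.t = ψ SekSuwa.AK.t → φ = ψ := by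
    intro B _ _ φ ψ h
    exact SekSuwa.AK.algHom_ext h (by rw [SekSuwa19.inv_eq hdiv hp.out.pos]; simp [map_pow, h])
  let F : SekSuwa.AK R lam p hdiv →ₐc[R] A := BialgHom.ofAlgHom f
    (ext' _ _ (by
      show Coalgebra.counit (R := R) (f SekSuwa.AK.t) = Coalgebra.counit (R := R) (SekSuwa.AK.t : SekSuwa.AK R lam p hdiv)
      rw [ft, hεT, SekSuwa.AK.counit_t]))
    (ext' _ _ (by
      show Algebra.TensorProduct.map f f (Coalgebra.comul (R := R) (SekSuwa.AK.t : SekSuwa.AK R lam p hdiv)) =
        Coalgebra.comul (R := R) (f SekSuwa.AK.t)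
      rw [ft, hcT, SekSuwa.AK.comul_t]
      simp only [map_add, map_smul, Algebra.TensorProduct.map_tmul, map_one, ft]))
  -- powers of the reduction of `T` are independent
  let k := ResidueField R
  have hk : Module.Finite k (k ⊗[R] A) := inferInstance
  haveI : Nontrivial (k ⊗[R] A) :=
    ((b.baseChange k).repr.toEquiv.nontrivial)
  let Tk : k ⊗[R] A := 1 ⊗ₜ[R] T
  have hrepr : ∀ (a : A) (i : n), (b.baseChange k).repr ((1 : k) ⊗ₜ[R] a) i = residue R (b.repr a i) := by
    intro a i
    rw [Module.Basis.baseChange_repr_tmul, Algebra.smul_def, mul_one]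
    rfl
  have hTk : Tk ≠ 0 := by
    intro h0
    have hd : ∀ i, π ∣ b.repr T i := fun i => by
      have := hrepr T i
      rw [show (1 : k) ⊗ₜ[R] T = 0 from h0, map_zero, Finsupp.zero_apply, eq_comm, residue_eq_zero_iff,
        hπ.maximalIdeal_eq, Ideal.mem_span_singleton] at this
      exact this
    choose c hc using hd
    exact hT (∑ i, c i • b i) (by
      rw [Finset.smul_sum]
      conv_lhs => rw [← b.sum_repr T]
      exact Finset.sum_congr rfl fun i _ => by rw [hc i, mul_smul])
  have hli : LinearIndependent k (fun i : Fin p => Tk ^ (i : ℕ)) := by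
    refine linearIndependent_pow_of_twistedPrimitive p (residue R lam) Tk (IsIntegral.of_finite k Tk) hTk ?_ ?_ ?_
    · show Coalgebra.counit (R := k) ((1 : k) ⊗ₜ[R] T) = 0
      simp [hεT]
    · show Coalgebra.comul (R := k) ((1 : k) ⊗ₜ[R] T) = _
      rw [TensorProduct.comul_tmul, hcT]
      simp only [TensorProduct.tmul_add, TensorProduct.tmul_smul, map_add, Bialgebra.comul_one,
        Algebra.TensorProduct.one_def, Tk]
      rw [← algebraMap_smul k lam ((1 : k) ⊗ₜ[k] (1 : k) ⊗ₜ[R] (T ⊗ₜ[R] T)), map_smul]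
      rfl
    · have : (1 : k ⊗[R] A) + residue R lam • Tk = Algebra.TensorProduct.includeRight (1 + lam • T) := by
        rw [map_add, map_one, map_smul, Algebra.TensorProduct.includeRight_apply]
        exact congrArg (1 + ·) (algebraMap_smul k lam Tk)
      rw [this, ← map_pow, hgp, map_one]
  have hFt : F SekSuwa.AK.t = T := ft
  exact ⟨lam, hdiv, F, hl0, hFt.symm ▸ hgl, hFt.symm ▸ hli⟩

end Groth.Agent.RankP19
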