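import Groth.Agent.Lib.RankP19.Pts
import Mathlib.RingTheory.HopfAlgebra.Quotient
import Mathlib.RingTheory.Localization.Module
import Mathlib.RingTheory.PrincipalIdealDomain
import Mathlib.LinearAlgebra.FreeModule.PID

/-!
# Points of the quotient by one function
-/

set_option autoImplicit false
set_option linter.style.haveILetI false

universe u

open WithConv
open scoped TensorProduct

noncomputable section

namespace Groth.Agent.RankP19

variable {R : Type u} [CommRing R] [IsDomain R] {A : Type u} [CommRing A] [HopfAlgebra R A]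
  {K : Type u} [Field K] [Algebra R K] [IsFractionRing R K]
  {n : Type} [Fintype n] (b : Module.Basis n R A) {M : Type} [Group M] (x : M → (A →ₐ[R] K))
  (hbij : Function.Bijective (fun (c : n → K) (i : M) => ∑ k, c k * x i (b k)))

include hbij in
omit [Group M] in
theorem ext_of_points {a a' : A} (h : ∀ i, x i a = x i a') : a = a' :=
  b.ext_elem fun k => IsFractionRing.injective R K (congrFun (hbij.1 (funext fun i => by
    show ∑ k, algebraMap R _ (b.repr a k) * x i (b k) = ∑ k, algebraMap R _ (b.repr a' k) * x i (b k)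
    rw [← apply_eq_sum b, ← apply_eq_sum b, h i])) k)

include hbij in
omit [Group M] in
theorem exists_smul_mem_span (T a : A) (ha : ∀ i, x i T = 0 → x i a = 0) :
    ∃ r : R, r ≠ 0 ∧ r • a ∈ Ideal.span {T} := by
  classical
  obtain ⟨c, hc⟩ := hbij.2 fun i => x i a / x i T
  obtain ⟨⟨r, hr⟩, hrc⟩ := IsLocalization.exist_integer_multiples_of_finite (nonZeroDivisors R) c
  choose s hs using hrc
  refine ⟨r, nonZeroDivisors.ne_zero hr, ?_⟩
  rw [Ideal.mem_span_singleton']
  refine ⟨∑ k, s k • b k, ext_of_points b x hbij fun i => ?_⟩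
  have h1 : ∑ k, c k * x i (b k) = x i a / x i T := congrFun hc i
  have h2 : x i (∑ k, s k • b k) = r • (x i a / x i T) := by
    rw [← h1, map_sum, Finset.smul_sum]
    refine Finset.sum_congr rfl fun k _ => ?_
    rw [map_smul, Algebra.smul_def, hs k]
    simp [Algebra.smul_def, mul_assoc]
  rw [map_mul, h2, map_smul, smul_mul_assoc]
  by_cases hT : x i T = 0
  · rw [hT, mul_zero, ha i hT]
  · rw [div_mul_cancel₀ _ hT]

include hbij in
/-- The points at which `T` vanishes form a basis for the quotient by `T`, if it is torsion free. -/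
theorem exists_points_quotient (hmul : ∀ i j, toConv (x i) * toConv (x j) = toConv (x (i * j))) (T : A)
    (N : Subgroup M) (hN : ∀ i, i ∈ N ↔ x i T = 0) [hJ : (Ideal.span {T}).IsHopfIdeal R]
    [Module.IsTorsionFree R (A ⧸ Ideal.span {T})] :
    ∃ y : N → ((A ⧸ Ideal.span {T}) →ₐ[R] K), (∀ i j, toConv (y i) * toConv (y j) = toConv (y (i * j))) ∧
      ∀ {m : Type} [Fintype m] (b' : Module.Basis m R (A ⧸ Ideal.span {T})),
        Function.Bijective (fun (c : m → K) (i : N) => ∑ k, c k * y i (b' k)) := by
  classical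
  set J := Ideal.span {T}
  have hker : ∀ (i : N), ∀ a ∈ J, x i a = 0 := fun i a ha => by
    obtain ⟨c, rfl⟩ := Ideal.mem_span_singleton'.1 ha
    rw [map_mul, (hN i).1 i.2, mul_zero]
  let y : N → ((A ⧸ J) →ₐ[R] K) := fun i => Ideal.Quotient.liftₐ J (x i) (hker i)
  have hy : ∀ i a, y i (Ideal.Quotient.mk J a) = x i a := fun i a => rfl
  refine ⟨y, fun i j => ?_, fun {m} _ b' => ⟨?_, ?_⟩⟩
  · apply ofConv_injective
    refine Ideal.Quotient.algHom_ext R (AlgHom.ext fun a => ?_)
    show (toConv (y i) * toConv (y j)) (Ideal.Quotient.mk J a) = x (i * j : N) a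
    rw [Subgroup.coe_mul]
    have h := congrArg (fun f => (f : WithConv (A →ₐ[R] K)).ofConv a) (hmul i j)
    refine Eq.trans ?_ h
    show _ = (toConv (x i) * toConv (x j)) a
    rw [AlgHom.convMul_apply, AlgHom.convMul_apply, Bialgebra.Quotient.comul_mk]
    induction (Coalgebra.comul (R := R) a) with
    | zero => simp
    | add u v hu hv => simp only [map_add, hu, hv]
    | tmul u v => simp [hy]
  · let v : m → (N → K) := fun k i => y i (b' k)
    have hv : LinearIndependent R v := by
      rw [Fintype.linearIndependent_iff]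
      intro r hr k
      obtain ⟨a, ha⟩ := Ideal.Quotient.mk_surjective (∑ k, r k • b' k)
      have hai : ∀ i, x i T = 0 → x i a = 0 := fun i hi => by
        have := congrFun hr ⟨i, (hN i).2 hi⟩
        rw [Finset.sum_apply] at this
        rw [← hy ⟨i, (hN i).2 hi⟩, ha, map_sum]
        simpa [v, map_smul] using this
      obtain ⟨s, hs, hsa⟩ := exists_smul_mem_span b x hbij T a hai
      have h0 : s • (∑ k, r k • b' k) = 0 := by
        rw [← ha, ← Ideal.Quotient.mkₐ_eq_mk R, ← map_smul, Ideal.Quotient.mkₐ_eq_mk,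
          Ideal.Quotient.eq_zero_iff_mem]
        exact hsa
      exact Fintype.linearIndependent_iff.1 b'.linearIndependent r ((smul_eq_zero.1 h0).resolve_left hs) k
    have hvK : LinearIndependent K v := (LinearIndependent.iff_fractionRing R K).1 hv
    intro c d hcd
    have := Fintype.linearIndependent_iff.1 hvK (c - d) (by
      funext i
      have h1 := congrFun hcd i
      simp only [Finset.sum_apply, Pi.smul_apply, Pi.sub_apply, smul_eq_mul, sub_mul, Finset.sum_sub_distrib,
        Pi.zero_apply]
      exact sub_eq_zero.2 h1)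
    exact funext fun k => sub_eq_zero.1 (this k)
  · intro φ
    obtain ⟨c, hc⟩ := hbij.2 fun i => if h : i ∈ N then φ ⟨i, h⟩ else 0
    refine ⟨fun l => ∑ k, c k * algebraMap R K (b'.repr (Ideal.Quotient.mk J (b k)) l), funext fun i => ?_⟩
    have h1 : ∑ k, c k * x i (b k) = φ i := (congrFun hc i).trans (dif_pos i.2)
    rw [← h1]
    simp only [Finset.sum_mul]
    rw [Finset.sum_comm]
    refine Finset.sum_congr rfl fun k _ => ?_
    rw [← hy i (b k)]
    simp only [mul_assoc, ← Finset.mul_sum]
    congr 1
    exact (apply_eq_sum b' (y i) _).symm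

end Groth.Agent.RankP19
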