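import Groth.Agent.Lib.RankP19.Field
import Groth.Agent.Lib.RankP19.Pts
import Groth.Agent.Lib.SekSuwa19.Basic
import Mathlib.RingTheory.DiscreteValuationRing.Basic
import Mathlib.RingTheory.TensorProduct.Free
import Mathlib.RingTheory.Bialgebra.Equiv
import Mathlib.Data.Nat.Choose.Dvd

/-!
# Models of `μ_p` over a discrete valuation ring
-/

set_option autoImplicit false
set_option linter.style.haveILetI false
set_option backward.isDefEq.respectTransparency.types false

universe u

open Polynomial IsLocalRing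
open scoped TensorProduct

noncomputable section

namespace Groth.Agent.RankP19

/-- The binomial theorem for a prime exponent, with the middle terms factored. -/
theorem exists_add_pow_prime {S : Type u} [CommRing S] {p : ℕ} (hp : p.Prime) (y : S) :
    ∃ s, (1 + y) ^ p = 1 + y ^ p + (p : S) * y * (1 + y * s) := by
  refine ⟨∑ k ∈ Finset.Ico 2 p, ((p.choose k / p : ℕ) : S) * y ^ (k - 2), ?_⟩
  have h2 : 2 ≤ p := hp.two_le
  rw [add_comm 1 y, add_pow, Finset.sum_range_succ, ← Finset.sum_range_add_sum_Ico _ h2]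
  have e : ∑ k ∈ Finset.Ico 2 p, y ^ k * 1 ^ (p - k) * (p.choose k : S) =
      (p : S) * y * (y * ∑ k ∈ Finset.Ico 2 p, ((p.choose k / p : ℕ) : S) * y ^ (k - 2)) := by
    rw [Finset.mul_sum, Finset.mul_sum]
    refine Finset.sum_congr rfl fun k hk => ?_
    obtain ⟨hk1, hk2⟩ := Finset.mem_Ico.1 hk
    obtain ⟨j, rfl⟩ := Nat.exists_eq_add_of_le hk1
    obtain ⟨q, hq⟩ := hp.dvd_choose_self (by omega : 2 + j ≠ 0) hk2
    rw [hq, Nat.mul_div_cancel_left _ hp.pos, Nat.cast_mul, one_pow, Nat.add_sub_cancel_left]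
    ring
  rw [e, Finset.sum_range_succ, Finset.sum_range_one]
  simp [Nat.choose_one_right]
  ring

variable {R : Type u} [CommRing R] [IsDomain R]

theorem smul_cancel {V : Type u} [AddCommGroup V] [Module R V] [Module.IsTorsionFree R V] {r : R} (hr : r ≠ 0)
    {x y : V} (h : r • x = r • y) : x = y :=
  (smul_right_inj hr).1 h

/-- A twisted primitive element killed by `p`, not divisible by the uniformizer, forces the divisibility. -/
theorem dvd_of_twistedPrimitive [IsDiscreteValuationRing R] [CharZero R] {p : ℕ} (hp : p.Prime) {A : Type u}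
    [CommRing A] [Algebra R A] [Module.IsTorsionFree R A] (π : R) (hπ : Irreducible π) (m : ℕ) (T : A)
    (hT : ∀ T', T ≠ π • T') (hu : (1 + π ^ m • T) ^ p = 1) : (π ^ m) ^ (p - 1) ∣ (p : R) := by
  by_contra hndvd
  have hp0 : (p : R) ≠ 0 := Nat.cast_ne_zero.2 hp.ne_zero
  obtain ⟨e, w, hw⟩ := IsDiscreteValuationRing.eq_unit_mul_pow_irreducible hp0 hπ
  have hlt : e < m * (p - 1) := by
    by_contra! h
    exact hndvd (by rw [← pow_mul, hw]; exact (pow_dvd_pow π h).mul_left _)
  obtain ⟨r, hr⟩ := Nat.exists_eq_add_of_lt hlt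
  obtain ⟨s, hs⟩ := exists_add_pow_prime hp (π ^ m • T)
  rw [hu, add_assoc, left_eq_add] at hs
  have hm : 0 < m := by
    rcases Nat.eq_zero_or_pos m with rfl | h
    · simp at hlt
    · exact h
  let L := algebraMap R A
  have hpm : m * p = e + m + (r + 1) := by
    obtain ⟨q, rfl⟩ := Nat.exists_eq_add_of_le hp.one_le
    rw [Nat.add_sub_cancel_left] at hr
    rw [Nat.mul_add, hr]; omega
  have h1 : π ^ (e + m) • ((π ^ (r + 1)) • T ^ p + (w : R) • (T * (1 + (π ^ m • T) * s))) = (0 : A) := by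
    refine Eq.trans ?_ hs
    have hpA : (p : A) = algebraMap R A ((w : R) * π ^ e) := by rw [← hw, map_natCast]
    rw [hpA]
    simp only [Algebra.smul_def, mul_pow, map_mul, map_pow, ← pow_mul, mul_add, mul_one]
    rw [hpm]
    ring
  have h2 := (smul_eq_zero.1 h1).resolve_left (pow_ne_zero _ hπ.ne_zero)
  obtain ⟨m', rfl⟩ := Nat.exists_eq_add_of_le hm
  apply hT (-((w⁻¹ : Rˣ) : R) • (π ^ r • T ^ p) - π ^ m' • (T * T * s))
  have h3 := congrArg (fun z => ((w⁻¹ : Rˣ) : R) • z) h2
  simp only [smul_zero, smul_add, smul_smul, Units.inv_mul, one_smul] at h3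
  simp only [Algebra.smul_def, map_mul, map_pow, map_neg] at h3 ⊢
  simp only [pow_succ, pow_add, pow_one] at h3 ⊢
  linear_combination h3

theorem divCond_of_dvd {p : ℕ} (hp : p.Prime) {lam : R} (hlam : lam ≠ 0) (h : lam ^ (p - 1) ∣ (p : R)) :
    SekSuwa.DivCond lam p := by
  obtain ⟨u, hu⟩ := h
  obtain ⟨s, hs⟩ := exists_add_pow_prime hp (C lam * X)
  refine ⟨mem_nonZeroDivisors_of_ne_zero hlam, X ^ p + C u * X * (1 + C lam * X * s), ?_⟩
  rw [hs, ← C_eq_natCast, hu]
  conv_lhs => rw [show p = p - 1 + 1 from (Nat.sub_add_cancel hp.one_le).symm]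
  conv_rhs => rw [show p = p - 1 + 1 from (Nat.sub_add_cancel hp.one_le).symm]
  simp only [map_mul, map_pow, Nat.add_sub_cancel]
  ring

variable [IsDiscreteValuationRing R]

/-- A nontrivial group-like element `g` with `g ^ p = 1` presents a finite free rank `p` Hopf algebra as the
coordinate ring of some `G_{λ,1}`. -/
theorem exists_bialgEquiv_of_groupLike [CharZero R] (p : ℕ) [hp : Fact p.Prime] [CharP (ResidueField R) p]
    {A : Type u} [CommRing A] [Bialgebra R A] (b : Module.Basis (Fin p) R A) (g : A)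
    (hg : Coalgebra.comul (R := R) g = g ⊗ₜ[R] g) (hgε : Coalgebra.counit (R := R) g = 1)
    (hg1 : g ≠ 1) (hgp : g ^ p = 1) :
    ∃ (lam : R) (h : SekSuwa.DivCond lam p), lam ≠ 0 ∧ Nonempty (SekSuwa.AK R lam p h ≃ₐc[R] A) := by
  classical
  haveI := Module.Free.of_basis b
  haveI := Module.Finite.of_basis b
  obtain ⟨π, hπ⟩ := IsDiscreteValuationRing.exists_irreducible R
  have hbound : ∃ N, ¬ ∃ T : A, g - 1 = π ^ N • T := by
    obtain ⟨i, hi⟩ : ∃ i, b.repr (g - 1) i ≠ 0 := by
      by_contra! h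
      exact sub_ne_zero.2 hg1 (b.ext_elem fun i => by rw [h i]; simp)
    obtain ⟨N, w, hw⟩ := IsDiscreteValuationRing.eq_unit_mul_pow_irreducible hi hπ
    refine ⟨N + 1, fun ⟨T, hT⟩ => ?_⟩
    rw [hT, map_smul, Finsupp.smul_apply, smul_eq_mul] at hw
    have hd : π ∣ (w : R) := ⟨b.repr T i, mul_right_cancel₀ (pow_ne_zero N hπ.ne_zero) (by rw [← hw]; ring)⟩
    exact hπ.not_isUnit (isUnit_of_dvd_unit hd w.isUnit)
  have hN0 : Nat.find hbound ≠ 0 := fun h0 => by
    have := Nat.find_spec hbound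
    rw [h0] at this
    exact this ⟨g - 1, by rw [pow_zero, one_smul]⟩
  set m := Nat.find hbound - 1 with hm
  obtain ⟨T, hgT⟩ := not_not.1 (Nat.find_min hbound (by omega : m < Nat.find hbound))
  have hT : ∀ T', T ≠ π • T' := fun T' h => Nat.find_spec hbound ⟨T', hgT.trans (by
    rw [h, smul_smul, ← pow_succ, hm, Nat.sub_add_cancel (Nat.pos_of_ne_zero hN0)])⟩
  have hl0 : π ^ m ≠ 0 := pow_ne_zero _ hπ.ne_zero
  set lam := π ^ m with hlam
  have hgl : g = 1 + lam • T := by rw [← hgT]; abel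
  rw [hgl] at hgp
  have hdiv : SekSuwa.DivCond lam p :=
    divCond_of_dvd hp.out hl0 (dvd_of_twistedPrimitive hp.out π hπ m T hT hgp)
  refine ⟨lam, hdiv, hl0, ?_⟩
  have hcT : Coalgebra.comul (R := R) T = T ⊗ₜ[R] 1 + 1 ⊗ₜ[R] T + lam • (T ⊗ₜ[R] T) := by
    apply smul_cancel hl0
    have h := hg
    rw [hgl] at h
    simp only [map_add, map_smul, Bialgebra.comul_one, Algebra.TensorProduct.one_def, TensorProduct.add_tmul,
      TensorProduct.tmul_add, TensorProduct.smul_tmul', TensorProduct.tmul_smul, smul_add, add_assoc,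
      add_left_cancel_iff] at h ⊢
    rw [h]
  have hεT : Coalgebra.counit (R := R) T = 0 := by
    apply smul_cancel hl0
    rw [smul_zero]
    have h := hgε
    rw [hgl, map_add, map_smul, Bialgebra.counit_one, add_eq_left] at h
    exact h
  have hrel : (1 + lam • T) * (1 + lam • T) ^ (p - 1) = 1 := by
    rw [← pow_succ', Nat.sub_add_cancel hp.out.one_le]; exact hgp
  have hP : aeval T (SekSuwa.psiPoly lam p hdiv) = 0 := by
    apply smul_cancel (pow_ne_zero p hl0)
    rw [Algebra.smul_def, SekSuwa.aeval_psiPoly hdiv T, smul_zero, ← Algebra.smul_def, hgp, sub_self]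
  let f₀ := SekSuwa.A.lift R lam T ((1 + lam • T) ^ (p - 1)) hrel
  let f : SekSuwa.AK R lam p hdiv →ₐ[R] A := Ideal.Quotient.liftₐ (SekSuwa.kerIdeal lam p hdiv) f₀ (by
    intro z hz
    obtain ⟨a, rfl⟩ := Ideal.mem_span_singleton'.mp hz
    rw [map_mul, SekSuwa.kerGen, ← Polynomial.aeval_algHom_apply, SekSuwa.A.lift_t, hP, mul_zero])
  have ft : f SekSuwa.AK.t = T := SekSuwa.A.lift_t _ _ hrel
  have ext' : ∀ {B : Type u} [CommRing B] [Algebra R B] (φ ψ : SekSuwa.AK R lam p hdiv →ₐ[R] B),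
      φ SekSuwa.AK.t = ψ SekSuwa.AK.t → φ = ψ := by
    intro B _ _ φ ψ h
    exact SekSuwa.AK.algHom_ext h (by rw [SekSuwa19.inv_eq hdiv hp.out.pos]; simp [map_pow, h])
  let F : SekSuwa.AK R lam p hdiv →ₐc[R] A := BialgHom.ofAlgHom f
    (ext' _ _ (by
      show Coalgebra.counit (R := R) (f SekSuwa.AK.t) = Coalgebra.counit (R := R) (SekSuwa.AK.t : SekSuwa.AK R lam p hdiv)
      rw [ft, hεT, SekSuwa.AK.counit_t]))
    (ext' _ _ (by
      show Algebra.TensorProduct.map f f (Coalgebra.comul (R := R) (SekSuwa.AK.t : SekSuwa.AK R lam p hdiv)) =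
        Coalgebra.comul (R := R) (f SekSuwa.AK.t)
      rw [ft, hcT, SekSuwa.AK.comul_t]
      simp only [map_add, map_smul, Algebra.TensorProduct.map_tmul, map_one, ft]))
  -- powers of the reduction of `T` are independent
  let k := ResidueField R
  have hk : Module.Finite k (k ⊗[R] A) := inferInstance
  haveI : Nontrivial (k ⊗[R] A) :=
    ((b.baseChange k).repr.toEquiv.nontrivial)
  let Tk : k ⊗[R] A := 1 ⊗ₜ[R] T
  have hrepr : ∀ (a : A) (i : Fin p), (b.baseChange k).repr ((1 : k) ⊗ₜ[R] a) i = residue R (b.repr a i) := by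
    intro a i
    rw [Module.Basis.baseChange_repr_tmul, Algebra.smul_def, mul_one]
    rfl
  have hTk : Tk ≠ 0 := by
    intro h0
    have hd : ∀ i, π ∣ b.repr T i := fun i => by
      have := hrepr T i
      rw [show (1 : k) ⊗ₜ[R] T = 0 from h0, map_zero, Finsupp.zero_apply, eq_comm, residue_eq_zero_iff,
        hπ.maximalIdeal_eq, Ideal.mem_span_singleton] at this
      exact this
    choose c hc using hd
    exact hT (∑ i, c i • b i) (by
      rw [Finset.smul_sum]
      conv_lhs => rw [← b.sum_repr T]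
      exact Finset.sum_congr rfl fun i _ => by rw [hc i, mul_smul])
  have hli : LinearIndependent k (fun i : Fin p => Tk ^ (i : ℕ)) := by
    refine linearIndependent_pow_of_twistedPrimitive p (residue R lam) Tk (IsIntegral.of_finite k Tk) hTk ?_ ?_ ?_
    · show Coalgebra.counit (R := k) ((1 : k) ⊗ₜ[R] T) = 0
      simp [hεT]
    · show Coalgebra.comul (R := k) ((1 : k) ⊗ₜ[R] T) = _
      rw [TensorProduct.comul_tmul, hcT]
      simp only [TensorProduct.tmul_add, TensorProduct.tmul_smul, map_add, Bialgebra.comul_one,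
        Algebra.TensorProduct.one_def, Tk]
      rw [← algebraMap_smul k lam ((1 : k) ⊗ₜ[k] (1 : k) ⊗ₜ[R] (T ⊗ₜ[R] T)), map_smul]
      rfl
    · have : (1 : k ⊗[R] A) + residue R lam • Tk = Algebra.TensorProduct.includeRight (1 + lam • T) := by
        rw [map_add, map_one, map_smul, Algebra.TensorProduct.includeRight_apply]
        exact congrArg (1 + ·) (algebraMap_smul k lam Tk)
      rw [this, ← map_pow, hgp, map_one]
  -- hence the powers of `T` form a basis
  let C : Matrix (Fin p) (Fin p) R := b.toMatrix (fun i : Fin p => T ^ (i : ℕ))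
  have hC : IsUnit C.det := by
    have h1 : IsUnit ((C.map (residue R)).det) := by
      rw [← Matrix.isUnit_iff_isUnit_det, ← Matrix.linearIndependent_cols_iff_isUnit]
      have := hli.map' (b.baseChange k).equivFun.toLinearMap (LinearEquiv.ker (b.baseChange k).equivFun)
      have hcol : (C.map (residue R)).col = ⇑(b.baseChange k).equivFun ∘ fun i : Fin p => Tk ^ (i : ℕ) := by
        funext j i
        show residue R (b.repr (T ^ (j : ℕ)) i) = (b.baseChange k).repr (Tk ^ (j : ℕ)) i
        rw [Algebra.TensorProduct.tmul_pow, one_pow, hrepr]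
      rw [hcol]
      exact this
    rw [← RingHom.mapMatrix_apply, ← RingHom.map_det] at h1
    exact (isUnit_map_iff (residue R) _).1 h1
  have hspan : Submodule.span R (Set.range fun i : Fin p => T ^ (i : ℕ)) = ⊤ :=
    ((b.is_basis_iff_det).2 (by rw [Module.Basis.det_apply]; exact hC)).2
  have hsurj : Function.Surjective f := by
    rw [← AlgHom.range_eq_top, eq_top_iff]
    intro a _
    have ha : a ∈ Submodule.span R (Set.range fun i : Fin p => T ^ (i : ℕ)) := hspan ▸ Submodule.mem_top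
    refine (Submodule.span_le (p := f.range.toSubmodule)).2 ?_ ha
    rintro _ ⟨i, rfl⟩
    exact ⟨SekSuwa.AK.t ^ (i : ℕ), by rw [← ft]; exact map_pow f _ _⟩
  let e₁ := SekSuwa19.equiv hdiv hp.out.pos
  let b' : Module.Basis (Fin (SekSuwa.psiPoly lam p hdiv).natDegree) R (SekSuwa.AK R lam p hdiv) :=
    (AdjoinRoot.powerBasis' (SekSuwa19.monic hdiv hp.out.pos)).basis.map e₁.toLinearEquiv
  let e₂ : A ≃ₗ[R] SekSuwa.AK R lam p hdiv :=
    b.equiv b' (finCongr (SekSuwa19.natDegree_eq hdiv hp.out.pos).symm)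
  haveI : Module.Finite R (SekSuwa.AK R lam p hdiv) := Module.Finite.equiv e₂
  have hinj : Function.Injective f := by
    have h2 := OrzechProperty.injective_of_surjective_endomorphism (e₂.toLinearMap ∘ₗ f.toLinearMap)
      (e₂.surjective.comp hsurj)
    exact fun x y h => h2 (congrArg e₂ h)
  exact ⟨BialgEquiv.ofBijective F ⟨hinj, hsurj⟩⟩

end Groth.Agent.RankP19
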