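import Groth.Agent.Lib.RankP19.Hom
import Groth.Agent.Lib.HopfFlat20.Main
import Groth.Agent.Lib.FlatSyz.ProjDim
import Mathlib.RingTheory.LocalRing.Module
import Mathlib.RingTheory.TensorProduct.Quotient

/-!
# Flatness of maps to `G_{λ,1}` and their kernels
-/

set_option autoImplicit false
set_option linter.style.haveILetI false
set_option backward.isDefEq.respectTransparency.types false

universe u

open Polynomial IsLocalRing
open scoped TensorProduct

noncomputable section

namespace Groth.Agent.RankP19

variable {R : Type u} [CommRing R] [IsDomain R] [IsDiscreteValuationRing R]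
variable {p : ℕ} [hp : Fact p.Prime] {lam : R} {h : SekSuwa.DivCond lam p}
variable {A : Type u} [CommRing A] [HopfAlgebra R A] [Module.Finite R A] [Module.Free R A]
variable (F : SekSuwa.AK R lam p h →ₐc[R] A)

/-- The comorphism as a ring map. -/
abbrev comorph : SekSuwa.AK R lam p h →+* A := ((F : SekSuwa.AK R lam p h →ₐ[R] A) : SekSuwa.AK R lam p h →+* A)

variable (hli : LinearIndependent (ResidueField R)
        (fun i : Fin p => ((1 : ResidueField R) ⊗ₜ[R] F SekSuwa.AK.t) ^ (i : ℕ)))

instance finite_AK : Module.Finite R (SekSuwa.AK R lam p h) :=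
  haveI : Module.Finite R (AdjoinRoot (SekSuwa.psiPoly lam p h)) :=
    (SekSuwa19.monic h hp.out.pos).finite_adjoinRoot
  Module.Finite.equiv (SekSuwa19.equiv h hp.out.pos).toLinearEquiv

instance free_AK : Module.Free R (SekSuwa.AK R lam p h) :=
  haveI : Module.Free R (AdjoinRoot (SekSuwa.psiPoly lam p h)) :=
    (SekSuwa19.monic h hp.out.pos).free_adjoinRoot
  Module.Free.of_equiv (SekSuwa19.equiv h hp.out.pos).toLinearEquiv

include hli in
theorem injective_lTensor_residueField :
    Function.Injective ((F : SekSuwa.AK R lam p h →ₐ[R] A).toLinearMap.baseChange (ResidueField R)) := by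
  let e₁ := SekSuwa19.equiv h hp.out.pos
  let b' : Module.Basis (Fin (SekSuwa.psiPoly lam p h).natDegree) R (SekSuwa.AK R lam p h) :=
    (AdjoinRoot.powerBasis' (SekSuwa19.monic h hp.out.pos)).basis.map e₁.toLinearEquiv
  have hd := SekSuwa19.natDegree_eq h hp.out.pos
  have he : e₁ (AdjoinRoot.root (SekSuwa.psiPoly lam p h)) = SekSuwa.AK.t :=
    AdjoinRoot.liftAlgHom_root _ _ _ SekSuwa.AK.aeval_t
  have hb : ∀ i, b' i = SekSuwa.AK.t ^ (i : ℕ) := fun i => by
    show e₁ ((AdjoinRoot.powerBasis' (SekSuwa19.monic h hp.out.pos)).basis i) = _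
    rw [PowerBasis.basis_eq_pow, map_pow]
    exact congrArg (· ^ (i : ℕ)) he
  refine LinearMap.ker_eq_bot.1 (LinearMap.ker_eq_bot'.2 fun z hz => ?_)
  let β := b'.baseChange (ResidueField R)
  rw [← β.sum_repr z, map_sum] at hz
  simp only [map_smul] at hz
  have h2 := (hli.comp (Fin.cast hd) (Fin.cast_injective hd))
  have hz' : ∑ i, β.repr z i • ((1 : ResidueField R) ⊗ₜ[R] F SekSuwa.AK.t) ^ ((Fin.cast hd i : Fin p) : ℕ) = 0 := by
    refine Eq.trans (Finset.sum_congr rfl fun i _ => ?_) hz
    congr 1
    rw [Module.Basis.baseChange_apply, LinearMap.baseChange_tmul, hb, Algebra.TensorProduct.tmul_pow, one_pow]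
    exact congrArg _ (map_pow F _ _).symm
  have h3 := Fintype.linearIndependent_iff.1 h2 _ hz'
  exact β.ext_elem fun i => by rw [h3 i, map_zero, Finsupp.zero_apply]

include hli in
theorem injective_lTensor (L : Type u) [CommRing L] [Algebra R L] :
    Function.Injective ((F : SekSuwa.AK R lam p h →ₐ[R] A).toLinearMap.baseChange L) := by
  obtain ⟨s, hs⟩ := (IsLocalRing.split_injective_iff_lTensor_residueField_injective
    (F : SekSuwa.AK R lam p h →ₐ[R] A).toLinearMap).2 (injective_lTensor_residueField F hli)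
  intro x y hxy
  have h1 := congrArg (s.baseChange L) hxy
  rw [← LinearMap.comp_apply, ← LinearMap.comp_apply, ← LinearMap.baseChange_comp, hs,
    LinearMap.baseChange_id] at h1
  exact h1

include hli in
theorem injective_of_li : Function.Injective F := by
  obtain ⟨s, hs⟩ := (IsLocalRing.split_injective_iff_lTensor_residueField_injective
    (F : SekSuwa.AK R lam p h →ₐ[R] A).toLinearMap).2 (injective_lTensor_residueField F hli)
  intro x y hxy
  exact ((LinearMap.congr_fun hs x).symm.trans (congrArg s hxy)).trans (LinearMap.congr_fun hs y)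

include hli in
/-- A map to `G_{λ,1}` with fibrewise injective comorphism is flat. -/
theorem flat_of_li : (comorph F).Flat := by
  let B := SekSuwa.AK R lam p h
  letI : Algebra B A := (comorph F).toAlgebra
  haveI : IsScalarTower R B A := IsScalarTower.of_algebraMap_eq fun r => ((F : B →ₐ[R] A).commutes r).symm
  haveI : Algebra.FinitePresentation R B := Algebra.FinitePresentation.of_finiteType.1 inferInstance
  haveI : IsNoetherianRing B := IsNoetherianRing.of_finite R B
  haveI : Module.Finite B A := Module.Finite.of_restrictScalars_finite R B A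
  haveI : Module.FinitePresentation B A := Module.finitePresentation_of_finite B A
  haveI : Module.Flat R A := inferInstance
  refine FlatSyz.flat_of_flat_fibres (A := R) (B := B) (M := A) fun q => ?_
  let L := q.asIdeal.ResidueField
  let fL : L ⊗[R] B →ₐc[L] L ⊗[R] A := Bialgebra.TensorProduct.map (BialgHom.id L L) F
  have hfL : (fL : L ⊗[R] B →+* L ⊗[R] A).FaithfullyFlat := by
    refine HopfFlat.faithfullyFlat_of_injective fL ?_
    intro x y hxy
    refine injective_lTensor F hli L ?_
    have hl : ∀ z, (F : B →ₐ[R] A).toLinearMap.baseChange L z = fL z := fun z => by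
      induction z with
      | zero => simp
      | add a b ha hb => simp only [map_add, ha, hb]
      | tmul a b => rfl
    rw [hl, hl]
    exact hxy
  let P := (B ⊗[R] L) ⊗[B] A
  let e : P ≃ₐ[B] A ⊗[R] L :=
    (Algebra.TensorProduct.comm B (B ⊗[R] L) A).trans (Algebra.TensorProduct.cancelBaseChange R B B A L)
  have key : (algebraMap (B ⊗[R] L) P) =
      (e.symm.toRingEquiv.toRingHom).comp
        (((Algebra.TensorProduct.comm R L A).toRingEquiv.toRingHom.comp (fL : L ⊗[R] B →+* L ⊗[R] A)).comp
          (Algebra.TensorProduct.comm R B L).toRingEquiv.toRingHom) := by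
    refine RingHom.ext fun z => ?_
    apply e.injective
    rw [show ∀ w, (e.symm.toRingEquiv.toRingHom.comp w) z = e.symm (w z) from fun _ => rfl,
      AlgEquiv.apply_symm_apply]
    show e (z ⊗ₜ[B] (1 : A)) = Algebra.TensorProduct.comm R L A (fL (Algebra.TensorProduct.comm R B L z))
    induction z with
    | zero => simp [TensorProduct.zero_tmul]
    | add x y hx hy => simp only [TensorProduct.add_tmul, map_add, hx, hy]
    | tmul b l =>
      rw [Algebra.TensorProduct.comm_tmul]
      show e ((b ⊗ₜ[R] l) ⊗ₜ[B] (1 : A)) = Algebra.TensorProduct.comm R L A (l ⊗ₜ[R] F b)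
      rw [Algebra.TensorProduct.comm_tmul]
      show Algebra.TensorProduct.cancelBaseChange R B B A L ((1 : A) ⊗ₜ[B] (b ⊗ₜ[R] l)) = _
      rw [Algebra.TensorProduct.cancelBaseChange_tmul]
      simp [Algebra.smul_def, RingHom.algebraMap_toAlgebra, comorph]
  have hflat : (algebraMap (B ⊗[R] L) P).Flat := by
    rw [key]
    exact ((RingHom.Flat.of_bijective (Algebra.TensorProduct.comm R B L).bijective).comp
      (hfL.flat.comp (RingHom.Flat.of_bijective (Algebra.TensorProduct.comm R L A).bijective))).comp
      (RingHom.Flat.of_bijective e.symm.bijective)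
  exact RingHom.flat_algebraMap_iff.1 hflat

omit [Module.Finite R A] [Module.Free R A] in
/-- The ideal of the kernel is a Hopf ideal. -/
theorem isHopfIdeal_span : (Ideal.span {F SekSuwa.AK.t}).IsHopfIdeal R := by
  set J := Ideal.span {F SekSuwa.AK.t}
  have hε : Coalgebra.counit (R := R) (F SekSuwa.AK.t) = 0 := by
    rw [CoalgHomClass.counit_comp_apply, SekSuwa.AK.counit_t]
  have hΔ : Coalgebra.comul (R := R) (F SekSuwa.AK.t) = F SekSuwa.AK.t ⊗ₜ[R] 1 + 1 ⊗ₜ[R] F SekSuwa.AK.t +
      lam • (F SekSuwa.AK.t ⊗ₜ[R] F SekSuwa.AK.t) := by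
    rw [← CoalgHomClass.map_comp_comul_apply, SekSuwa.AK.comul_t]
    simp [map_add, map_smul]
  have hS : HopfAlgebraStruct.antipode R (F SekSuwa.AK.t) ∈ J := by
    have h1 := HopfAlgebra.mul_antipode_rTensor_comul_apply (R := R) (F SekSuwa.AK.t)
    rw [hΔ, hε, map_zero] at h1
    simp only [map_add, map_smul, LinearMap.rTensor_tmul, LinearMap.mul'_apply, HopfAlgebra.antipode_one,
      one_mul, mul_one] at h1
    rw [Ideal.mem_span_singleton]
    refine ⟨-(1 + lam • HopfAlgebraStruct.antipode R (F SekSuwa.AK.t)), ?_⟩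
    rw [Algebra.smul_def] at h1 ⊢
    linear_combination h1
  have hco : (J.restrictScalars R).IsCoideal := by
    refine Submodule.IsCoideal.mk ?_ ?_
    · intro z hz
      obtain ⟨a, rfl⟩ := Ideal.mem_span_singleton'.mp hz
      change Bialgebra.counitAlgHom R A (a * F SekSuwa.AK.t) = 0
      rw [map_mul]
      change _ * CoalgebraStruct.counit (R := R) (F SekSuwa.AK.t) = 0
      rw [hε, mul_zero]
    · intro z hz
      obtain ⟨a, rfl⟩ := Ideal.mem_span_singleton'.mp hz
      have hmk : (Submodule.restrictScalars R J).mkQ = (Ideal.Quotient.mkₐ R J).toLinearMap := rfl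
      rw [hmk]
      change Algebra.TensorProduct.map (Ideal.Quotient.mkₐ R J) (Ideal.Quotient.mkₐ R J)
          (Bialgebra.comulAlgHom R A (a * F SekSuwa.AK.t)) = 0
      rw [map_mul, map_mul]
      change _ * Algebra.TensorProduct.map _ _ (CoalgebraStruct.comul (R := R) (F SekSuwa.AK.t)) = 0
      rw [hΔ, map_add, map_add, map_smul, Algebra.TensorProduct.map_tmul, Algebra.TensorProduct.map_tmul,
        Algebra.TensorProduct.map_tmul]
      have h0 : Ideal.Quotient.mkₐ R J (F SekSuwa.AK.t) = 0 :=
        (Ideal.Quotient.eq_zero_iff_mem).mpr (Ideal.subset_span rfl)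
      simp [h0]
  refine { hco with antipode_mem := ?_ }
  intro z hz
  obtain ⟨a, rfl⟩ := Ideal.mem_span_singleton'.mp hz
  rw [HopfAlgebra.antipode_mul_distrib]
  exact Ideal.mul_mem_left _ _ hS

theorem sub_counit_mem (b : SekSuwa.AK R lam p h) :
    b - algebraMap R _ (Coalgebra.counit (R := R) b) ∈ Ideal.span {(SekSuwa.AK.t : SekSuwa.AK R lam p h)} := by
  set I := Ideal.span {(SekSuwa.AK.t : SekSuwa.AK R lam p h)}
  have ht : Ideal.Quotient.mkₐ R I SekSuwa.AK.t = 0 :=
    (Ideal.Quotient.eq_zero_iff_mem).mpr (Ideal.subset_span rfl)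
  have e : Ideal.Quotient.mkₐ R I =
      (Algebra.ofId R _).comp (Bialgebra.counitAlgHom R (SekSuwa.AK R lam p h)) := by
    refine SekSuwa.AK.algHom_ext ?_ ?_
    · rw [ht, AlgHom.comp_apply, Bialgebra.counitAlgHom_apply, SekSuwa.AK.counit_t, map_zero]
    · rw [AlgHom.comp_apply, Bialgebra.counitAlgHom_apply, SekSuwa.AK.counit_inv, map_one,
        SekSuwa19.inv_eq h hp.out.pos, map_pow, map_add, map_one, map_smul, ht, smul_zero, add_zero, one_pow]
  rw [← Ideal.Quotient.eq_zero_iff_mem, map_sub, sub_eq_zero]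
  exact AlgHom.congr_fun e b

include hli in
/-- The coordinate ring of the kernel is torsion free. -/
theorem isTorsionFree_quotient : Module.IsTorsionFree R (A ⧸ Ideal.span {F SekSuwa.AK.t}) := by
  let B := SekSuwa.AK R lam p h
  letI : Algebra B A := (comorph F).toAlgebra
  haveI : IsScalarTower R B A := IsScalarTower.of_algebraMap_eq fun r => ((F : B →ₐ[R] A).commutes r).symm
  haveI : Module.Flat B A := RingHom.flat_algebraMap_iff.1 (flat_of_li F hli)
  set I := Ideal.span {(SekSuwa.AK.t : B)} with hI
  have hmap : I.map (algebraMap B A) = Ideal.span {F SekSuwa.AK.t} := by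
    rw [hI, Ideal.map_span, Set.image_singleton]; rfl
  rw [← hmap]
  refine Module.IsTorsionFree.of_smul_eq_zero fun r x hx => ?_
  by_contra! hne
  obtain ⟨hr, hx0⟩ := hne
  let φ : (B ⧸ I) →ₗ[B] (B ⧸ I) := LinearMap.lsmul B (B ⧸ I) (algebraMap R B r)
  have hφ : Function.Injective φ := by
    rw [injective_iff_map_eq_zero]
    intro y hy
    obtain ⟨b, rfl⟩ := Ideal.Quotient.mk_surjective y
    have hy' : algebraMap R B r * b ∈ I := Ideal.Quotient.eq_zero_iff_mem.1 hy
    have hε : ∀ z ∈ I, Coalgebra.counit (R := R) z = 0 := by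
      intro z hz
      obtain ⟨c, rfl⟩ := Ideal.mem_span_singleton'.mp hz
      rw [Bialgebra.counit_mul, SekSuwa.AK.counit_t, mul_zero]
    have := hε _ hy'
    rw [Bialgebra.counit_mul, Bialgebra.counit_algebraMap, mul_eq_zero] at this
    rw [Ideal.Quotient.eq_zero_iff_mem]
    have hb := sub_counit_mem b
    rwa [this.resolve_left hr, map_zero, sub_zero] at hb
  have hinj := Module.Flat.rTensor_preserves_injective_linearMap (M := A) φ hφ
  let e := Algebra.TensorProduct.quotIdealMapEquivQuotTensor A I
  apply hx0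
  apply e.injective
  rw [map_zero]
  apply hinj
  rw [map_zero]
  have hφe : ∀ z, φ.rTensor A z = (algebraMap R B r) • z := fun z => by
    induction z with
    | zero => simp
    | add a b ha hb => simp only [map_add, smul_add, ha, hb]
    | tmul a b => simp [φ, TensorProduct.smul_tmul']
  have hmk : (Ideal.Quotient.mk I (algebraMap R B r)) • x = r • x := by
    obtain ⟨a, rfl⟩ := Ideal.Quotient.mk_surjective x
    rw [Algebra.smul_def r, IsScalarTower.algebraMap_apply R B (A ⧸ I.map (algebraMap B A))]
    rfl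
  have hz : ∀ z : (B ⧸ I) ⊗[B] A, (algebraMap R B r) • z = (Ideal.Quotient.mk I (algebraMap R B r)) • z := fun z =>
    (algebraMap_smul (B ⧸ I) (algebraMap R B r) z).symm
  rw [hφe, hz, ← map_smul, hmk, hx, map_zero]

end Groth.Agent.RankP19
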