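import Groth.Agent.Lib.RankP19.Main
import Groth.Agent.Lib.MTRigid29.Model
import Mathlib.AlgebraicGeometry.Limits

/-!
# Points of a finite group scheme with constant generic fibre
-/

set_option autoImplicit false
set_option linter.style.haveILetI false
set_option backward.isDefEq.respectTransparency.types false

universe u

open CategoryTheory Limits MonoidalCategory CartesianMonoidalCategory MonObj AlgebraicGeometry Opposite WithConv
open scoped TensorProduct

noncomputable section

namespace Groth.Agent.RankP19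

open Groth.Agent.DiagGL (fl fl_mul fl_comp fl_injective)
open Groth.Agent.MTRigid29 (ptEquiv ptEquiv_apply spIso bcPt fl_bcPt exists_pt)

section Const

variable (K : Type u) [CommRing K] (M : Type) [Finite M]

/-- A finite constant scheme over an affine base is affine. -/
def sigmaToSpec : (∐ fun _ : M => Spec (CommRingCat.of K)) ⟶ Spec (CommRingCat.of (M → K)) :=
  Sigma.desc fun m : M => Spec.map (CommRingCat.ofHom (Pi.evalRingHom (fun _ : M => K) m))

instance isIso_sigmaToSpec : IsIso (sigmaToSpec K M) := by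
  let e : (ULift.{u} M → K) ≃+* (M → K) :=
    { toFun := fun f m => f (ULift.up m), invFun := fun f i => f i.down, left_inv := fun _ => rfl,
      right_inv := fun _ => rfl, map_mul' := fun _ _ => rfl, map_add' := fun _ _ => rfl }
  have h : sigmaToSpec K M = (Sigma.reindex (Equiv.ulift.{u} (α := M)) fun _ : M => Spec (CommRingCat.of K)).inv ≫
      sigmaSpec (fun _ : ULift.{u} M => CommRingCat.of K) ≫
        Spec.map e.symm.toCommRingCatIso.hom := by
    refine Sigma.hom_ext _ _ fun m => ?_
    rw [sigmaToSpec, Sigma.ι_desc]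
    have := Sigma.ι_reindex_inv (Equiv.ulift.{u} (α := M)) (fun _ : M => Spec (CommRingCat.of K)) (ULift.up m)
    rw [← Category.assoc, show Sigma.ι (fun _ : M => Spec (CommRingCat.of K)) m ≫ _ = _ from this]
    erw [ι_sigmaSpec_assoc]
    rw [← Spec.map_comp]
    rfl
  rw [h]
  infer_instance

/-- The constant scheme on a finite set as the spectrum of the algebra of functions. -/
def constIso : TwC.const (Spec (CommRingCat.of K)) M ≅ CoactBr.sp K (M → K) :=
  haveI := isIso_sigmaToSpec K M
  Over.isoMk (@asIso Scheme.{u} _ _ _ (sigmaToSpec K M) (isIso_sigmaToSpec K M)) (Sigma.hom_ext _ _ fun m => by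
    show Sigma.ι _ m ≫ sigmaToSpec K M ≫ Spec.map (CommRingCat.ofHom (algebraMap K (M → K))) =
      Sigma.ι _ m ≫ Sigma.desc fun _ : M => 𝟙 _
    rw [sigmaToSpec, Sigma.ι_desc_assoc, Sigma.ι_desc, ← Spec.map_comp]
    exact Spec.map_id _)

theorem pt_eval_constIso_inv (m : M) :
    CoactBr.pt (Pi.evalAlgHom K (fun _ : M => K) m) ≫ (constIso K M).inv =
      toUnit (CoactBr.sp K K) ≫ TwC.pt (Spec (CommRingCat.of K)) M m := by
  rw [Iso.comp_inv_eq, Category.assoc]
  apply Over.OverMorphism.ext
  show Spec.map _ = (toUnit (CoactBr.sp K K)).left ≫ Sigma.ι (fun _ : M => Spec (CommRingCat.of K)) m ≫ sigmaToSpec K M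
  rw [sigmaToSpec, Sigma.ι_desc]
  have : (toUnit (CoactBr.sp K K)).left = 𝟙 _ := by
    have h := Over.w (toUnit (CoactBr.sp K K))
    refine ((Category.comp_id _).symm.trans h).trans ?_
    exact Spec.map_id _
  rw [this]
  exact (Category.id_comp _).symm

end Const

section Points

variable {R : Type u} [CommRing R] {A : Type u} [CommRing A] [HopfAlgebra R A]
  {H : Over (Spec (CommRingCat.of R))} [GrpObj H] (e : Grp.mk (CoactBr.sp R A) ≅ Grp.mk H)
  {T : Type u} [CommRing T] [Algebra R T]

theorem bcPt_mul (X : Type u) [CommRing X] [Algebra R X] [Algebra T X] [IsScalarTower R T X]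
    (f g : WithConv (A →ₐ[R] X)) : bcPt (T := T) e X (f * g) = bcPt e X f * bcPt e X g := by
  haveI : IsMonHom e.hom.hom.hom := e.hom.hom.isMonHom_hom
  apply fl_injective _ H
  rw [fl_mul, fl_bcPt, fl_bcPt, fl_bcPt, map_mul, MonObj.mul_comp, MonObj.comp_mul]

theorem bcPt_bijective (X : Type u) [CommRing X] [Algebra R X] [Algebra T X] [IsScalarTower R T X] :
    Function.Bijective (bcPt (T := T) e X) := by
  refine ((Over.mapPullbackAdj _).homEquiv _ _).bijective.comp ⟨fun f g h => ?_, fun q => ?_⟩
  · exact (ptEquiv A X).injective ((cancel_mono e.hom.hom.hom).1 ((cancel_epi (spIso X).hom).1 h))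
  · obtain ⟨f, hf⟩ := (ptEquiv A X).surjective ((spIso X).inv ≫ q ≫ e.inv.hom.hom)
    refine ⟨f, ?_⟩
    show (spIso X).hom ≫ ptEquiv A X f ≫ e.hom.hom.hom = q
    rw [hf, Category.assoc, Category.assoc, Iso.hom_inv_id_assoc, ← Mon.comp_hom', ← Grp.comp', e.inv_hom_id]
    exact Category.comp_id q

theorem pt_bcPt {X X' : Type u} [CommRing X] [Algebra R X] [Algebra T X] [IsScalarTower R T X]
    [CommRing X'] [Algebra R X'] [Algebra T X'] [IsScalarTower R T X'] (h : X →ₐ[T] X') (f : A →ₐ[R] X) :
    CoactBr.pt h ≫ bcPt e X (toConv f) = bcPt e X' (toConv ((h.restrictScalars R).comp f)) := by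
  refine fl_injective _ H ?_
  rw [fl_comp, fl_bcPt, fl_bcPt, ptEquiv_apply, ptEquiv_apply, ofConv_toConv, ofConv_toConv,
    CoactBr.pt_comp, Category.assoc, ← Category.assoc (spIso X').hom, ← Category.assoc ((Over.map _).map _)]
  congr 1

variable {M : Type} [Group M] [Fintype M]

include e

set_option maxHeartbeats 400000 in
/-- The points of an affine group scheme with constant base change form a basis. -/
theorem exists_points (e₀ : Red.bc (Spec.map (CommRingCat.ofHom (algebraMap R T))) H ≅
      TwC.const (Spec (CommRingCat.of T)) M)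
    (he₀ : TwC.IsConstGrp M (Red.bc (Spec.map (CommRingCat.ofHom (algebraMap R T))) H) e₀) :
    ∃ x : M → (A →ₐ[R] T), (∀ i j, toConv (x i) * toConv (x j) = toConv (x (i * j))) ∧
      ∀ {n : Type} [Fintype n] (b : Module.Basis n R A),
        Function.Bijective (fun (c : n → T) (i : M) => ∑ k, c k * x i (b k)) := by
  classical
  let B := T ⊗[R] A
  let u := bcPt (T := T) e B (toConv Algebra.TensorProduct.includeRight)
  obtain ⟨Φ, hΦ⟩ := exists_pt (R := T) (u ≫ e₀.hom ≫ (constIso T M).hom)
  let y := (constIso T M).inv ≫ e₀.inv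
  obtain ⟨f, hf⟩ := (bcPt_bijective (T := T) e (M → T)).2 y
  let Ψ : B →ₐ[T] (M → T) := Algebra.TensorProduct.lift (Algebra.ofId T _) f.ofConv fun _ _ => .all _ _
  have hΨr : (Ψ.restrictScalars R).comp Algebra.TensorProduct.includeRight = f.ofConv := AlgHom.ext fun a =>
    (Algebra.TensorProduct.lift_tmul (S := T) (Algebra.ofId T (M → T)) f.ofConv (fun _ _ => .all _ _) 1 a).trans (by rw [map_one, _root_.one_mul])
  have h1 : ((Φ.comp Ψ).restrictScalars R).comp Algebra.TensorProduct.includeRight =
      (Algebra.TensorProduct.includeRight : A →ₐ[R] B) := by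
    apply toConv_injective
    apply (bcPt_bijective (T := T) e B).1
    rw [show ((Φ.comp Ψ).restrictScalars R).comp Algebra.TensorProduct.includeRight =
      (Φ.restrictScalars R).comp f.ofConv from by rw [← hΨr]; rfl, ← pt_bcPt, toConv_ofConv, hf, ← hΦ]
    simp [u, y]
  have h2 : Φ.comp Ψ = AlgHom.id T B := Algebra.TensorProduct.ext (Subsingleton.elim _ _) h1
  have h3 : Ψ.comp Φ = AlgHom.id T (M → T) := by
    apply CoactBr.pt_injective
    rw [CoactBr.pt_comp, ← hΦ, ← Category.assoc, pt_bcPt, hΨr, toConv_ofConv, hf]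
    rw [CoactBr.pt_id]
    simp [y]
  let x : M → (A →ₐ[R] T) := fun m => ((Pi.evalAlgHom T (fun _ : M => T) m).restrictScalars R).comp f.ofConv
  have hx : ∀ m, bcPt (T := T) e T (toConv (x m)) =
      toUnit (CoactBr.sp T T) ≫ TwC.pt (Spec (CommRingCat.of T)) M m ≫ e₀.inv := by
    intro m
    rw [← pt_bcPt, toConv_ofConv, hf, ← Category.assoc (toUnit _), ← pt_eval_constIso_inv]
    exact (Category.assoc _ _ _).symm
  refine ⟨x, fun i j => ?_, fun {n} _ b => ?_⟩
  · apply (bcPt_bijective (T := T) e T).1
    rw [bcPt_mul, hx, hx, hx, ← MonObj.comp_mul]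
    exact congrArg _ (he₀ i j)
  · let E : B ≃ₐ[T] (M → T) := AlgEquiv.ofAlgHom Ψ Φ h3 h2
    have hE : (fun (c : n → T) (i : M) => ∑ k, c k * x i (b k)) =
        ⇑E ∘ ⇑(b.baseChange T).equivFun.symm := by
      funext c i
      rw [Function.comp_apply, Module.Basis.equivFun_symm_apply]
      simp only [map_sum, map_smul, Finset.sum_apply, Pi.smul_apply, smul_eq_mul, Module.Basis.baseChange_apply]
      refine Finset.sum_congr rfl fun k _ => ?_
      congr 1
      show x i (b k) = Ψ ((1 : T) ⊗ₜ[R] b k) i
      rw [Algebra.TensorProduct.lift_tmul, map_one, _root_.one_mul]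
      rfl
    rw [hE]
    exact E.bijective.comp (LinearEquiv.bijective _)

end Points

end Groth.Agent.RankP19
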